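import Groth.Prelude.Def_HTop2
import Mathlib.AlgebraicGeometry.Morphisms.Integral
import Mathlib.AlgebraicGeometry.Morphisms.UniversallyInjective
import Mathlib.AlgebraicGeometry.ResidueField
import Mathlib.FieldTheory.PurelyInseparable.Basic
import Mathlib.FieldTheory.IsAlgClosed.AlgebraicClosure
import Mathlib.RingTheory.Ideal.GoingUp

/-! Ring-theoretic criteria for universal homeomorphisms of affine schemes, and residue fields. -/

set_option linter.style.haveILetI false

universe u

open CategoryTheory AlgebraicGeometry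

namespace Groth.Agent.UnivHomeo.Basic

section Scheme

variable {X Y : Scheme.{u}} (f : X ⟶ Y)

theorem isUnivHomeo_of [UniversallyClosed f] [Surjective f] [UniversallyInjective f] :
    FlatMor.IsUnivHomeo f := by
  intro X' Y' i₁ i₂ f' h
  have h1 : UniversallyClosed f' := MorphismProperty.of_isPullback h.flip ‹_›
  have h2 : Surjective f' := MorphismProperty.of_isPullback h.flip ‹_›
  have h3 : UniversallyInjective f' := MorphismProperty.of_isPullback h.flip ‹_›
  exact isHomeomorph_iff_continuous_isClosedMap_bijective.mpr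
    ⟨f'.continuous, f'.isClosedMap, f'.injective, f'.surjective⟩

variable {f}

theorem universallyClosed_of_isUnivHomeo (h : FlatMor.IsUnivHomeo f) : UniversallyClosed f :=
  ⟨MorphismProperty.universally_mono (fun _ _ _ hg => (hg : IsHomeomorph _).isClosedMap) _ h⟩

theorem universallyInjective_of_isUnivHomeo (h : FlatMor.IsUnivHomeo f) : UniversallyInjective f :=
  ⟨MorphismProperty.universally_mono (fun _ _ _ hg => (hg : IsHomeomorph _).injective) _ h⟩

theorem surjective_of_isUnivHomeo (h : FlatMor.IsUnivHomeo f) : Surjective f :=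
  ⟨(h _ _ _ (IsPullback.of_id_snd) : IsHomeomorph _).surjective⟩

theorem isIntegralHom_of_isUnivHomeo [IsAffineHom f] (h : FlatMor.IsUnivHomeo f) :
    IsIntegralHom f :=
  IsIntegralHom.iff_universallyClosed_and_isAffineHom.mpr
    ⟨universallyClosed_of_isUnivHomeo h, inferInstance⟩

end Scheme

section Ring

variable {A B : Type u} [CommRing A] [CommRing B] (φ : A →+* B)

/-- injectivity on field-valued points -/
def InjPoints : Prop :=
  ∀ (K : Type u) [Field K] (g₁ g₂ : B →+* K), g₁.comp φ = g₂.comp φ → g₁ = g₂

theorem universallyInjective_spec_iff :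
    UniversallyInjective (Spec.map (CommRingCat.ofHom φ)) ↔ InjPoints φ := by
  refine ((tfae_universallyInjective (Spec.map (CommRingCat.ofHom φ))).out 0 1 :
    UniversallyInjective (Spec.map (CommRingCat.ofHom φ)) ↔ ∀ (K : Type u) [Field K],
      Function.Injective (fun g : Spec (.of K) ⟶ Spec (.of B) ↦ g ≫ Spec.map (CommRingCat.ofHom φ))).trans ?_
  constructor
  · intro h K _ g₁ g₂ hg
    have h' : Spec.map (CommRingCat.ofHom g₁) = Spec.map (CommRingCat.ofHom g₂) :=
      h K (by simp only [← Spec.map_comp, ← CommRingCat.ofHom_comp, hg])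
    simpa using congrArg CommRingCat.Hom.hom (Spec.map_inj.mp h')
  · intro h K _ f₁ f₂ hf
    obtain ⟨g₁, rfl⟩ := Spec.map_surjective f₁
    obtain ⟨g₂, rfl⟩ := Spec.map_surjective f₂
    simp only [← Spec.map_comp] at hf
    have := h K g₁.hom g₂.hom (by simpa using congrArg CommRingCat.Hom.hom (Spec.map_inj.mp hf))
    congr 1
    exact CommRingCat.hom_ext this

theorem isUnivHomeo_spec_iff :
    FlatMor.IsUnivHomeo (Spec.map (CommRingCat.ofHom φ)) ↔
      φ.IsIntegral ∧ Function.Surjective (PrimeSpectrum.comap φ) ∧ InjPoints φ := by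
  constructor
  · intro h
    refine ⟨?_, ?_, ?_⟩
    · simpa using IsIntegralHom.SpecMap_iff.mp (isIntegralHom_of_isUnivHomeo h)
    · exact (surjective_of_isUnivHomeo h).surj
    · exact (universallyInjective_spec_iff φ).mp (universallyInjective_of_isUnivHomeo h)
  · rintro ⟨h1, h2, h3⟩
    haveI : IsIntegralHom (Spec.map (CommRingCat.ofHom φ)) := IsIntegralHom.SpecMap_iff.mpr h1
    haveI : Surjective (Spec.map (CommRingCat.ofHom φ)) := ⟨h2⟩
    haveI := (universallyInjective_spec_iff φ).mpr h3
    exact isUnivHomeo_of _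

variable {φ}

theorem comap_injective_of_injPoints (h : InjPoints φ) :
    Function.Injective (PrimeSpectrum.comap φ) :=
  haveI := (universallyInjective_spec_iff φ).mpr h
  (Spec.map (CommRingCat.ofHom φ)).injective

end Ring

section ResidueField

variable {A B : Type u} [CommRing A] [CommRing B] (φ : A →+* B)

set_option backward.isDefEq.respectTransparency.types false in
theorem residueFieldMap_spec (q : PrimeSpectrum B) :
    (Spec.map (CommRingCat.ofHom φ)).residueFieldMap q =
      (Scheme.Spec.residueFieldIso (.of A) (PrimeSpectrum.comap φ q)).hom ≫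
        CommRingCat.ofHom (Ideal.ResidueField.map (PrimeSpectrum.comap φ q).asIdeal q.asIdeal φ rfl) ≫
          (Scheme.Spec.residueFieldIso (.of B) q).inv := by
  refine (Iso.inv_comp_eq _).mp ?_
  apply CommRingCat.hom_ext
  refine Ideal.ResidueField.ringHom_ext ?_
  suffices h : CommRingCat.ofHom (algebraMap A (PrimeSpectrum.comap φ q).asIdeal.ResidueField) ≫
      ((Scheme.Spec.residueFieldIso (.of A) (PrimeSpectrum.comap φ q)).inv ≫
        (Spec.map (CommRingCat.ofHom φ)).residueFieldMap q) =
      CommRingCat.ofHom φ ≫ CommRingCat.ofHom (algebraMap B q.asIdeal.ResidueField) ≫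
        (Scheme.Spec.residueFieldIso (.of B) q).inv by
    have h' := congrArg CommRingCat.Hom.hom h
    refine h'.trans ?_
    ext a
    exact (congrArg (Scheme.Spec.residueFieldIso (.of B) q).inv.hom
      (Ideal.ResidueField.map_algebraMap (PrimeSpectrum.comap φ q).asIdeal q.asIdeal φ rfl a)).symm
  apply Spec.map_injective
  simp only [Spec.map_comp]
  rw [Category.assoc]
  erw [Scheme.Spec.map_residueFieldIso_inv_eq_fromSpecResidueField (.of A) (PrimeSpectrum.comap φ q)]
  erw [Scheme.Spec.map_residueFieldIso_inv_eq_fromSpecResidueField (.of B) q]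
  exact (Spec.map (CommRingCat.ofHom φ)).SpecMap_residueFieldMap_fromSpecResidueField q

set_option backward.isDefEq.respectTransparency.types false in
theorem residueFieldsIso_spec_iff :
    HTop.ResidueFieldsIso (Spec.map (CommRingCat.ofHom φ)) ↔
      ∀ q : PrimeSpectrum B, Function.Bijective
        (Ideal.ResidueField.map (PrimeSpectrum.comap φ q).asIdeal q.asIdeal φ rfl) := by
  refine forall_congr' fun q => ?_
  erw [residueFieldMap_spec φ q]
  refine (isIso_comp_left_iff _ _).trans ((isIso_comp_right_iff _ _).trans ?_)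
  exact ConcreteCategory.isIso_iff_bijective _

theorem residueFieldMap_comp {C : Type u} [CommRing C] (ψ : B →+* C) (χ : A →+* C)
    (hχ : ψ.comp φ = χ) (P : Ideal A) [P.IsPrime] (Q : Ideal B) [Q.IsPrime] (R : Ideal C) [R.IsPrime]
    (h₁ : P = Q.comap φ) (h₂ : Q = R.comap ψ) (h₃ : P = R.comap χ) :
    (Ideal.ResidueField.map Q R ψ h₂).comp (Ideal.ResidueField.map P Q φ h₁) =
      Ideal.ResidueField.map P R χ h₃ := by
  subst hχ
  exact Ideal.ResidueField.ringHom_ext (RingHom.ext fun a => by simp)

variable {φ}

/-- the residue field extensions of an integral map are algebraic (integral) -/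
theorem isIntegral_residueFieldMap (hφ : φ.IsIntegral) (Q : Ideal B) [Q.IsPrime] (P : Ideal A)
    [P.IsPrime] (h : P = Q.comap φ) : (Ideal.ResidueField.map P Q φ h).IsIntegral := by
  intro x
  letI := (Ideal.ResidueField.map P Q φ h).toAlgebra
  have hb : ∀ b : B, IsIntegral P.ResidueField (algebraMap B Q.ResidueField b) := by
    intro b
    obtain ⟨p, hp, hpb⟩ := hφ b
    refine ⟨p.map (algebraMap A P.ResidueField), hp.map _, ?_⟩
    rw [Polynomial.eval₂_map]
    have e : (algebraMap P.ResidueField Q.ResidueField).comp (algebraMap A P.ResidueField) =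
        (algebraMap B Q.ResidueField).comp φ := by
      ext a
      exact Ideal.ResidueField.map_algebraMap P Q φ h a
    rw [e, ← Polynomial.hom_eval₂, hpb, map_zero]
  obtain ⟨b, s, -, rfl⟩ := IsFractionRing.div_surjective (A := B ⧸ Q) x
  obtain ⟨b, rfl⟩ := Ideal.Quotient.mk_surjective b
  obtain ⟨s, rfl⟩ := Ideal.Quotient.mk_surjective s
  simp only [Ideal.algebraMap_quotient_residueField_mk, div_eq_mul_inv]
  exact (hb b).mul (hb s).inv

/-- along an integral map, a homomorphism to an algebraically closed field extends -/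
theorem exists_extend_of_isIntegral {Ω : Type*} [Field Ω] [IsAlgClosed Ω] (hφ : φ.IsIntegral)
    (g : A →+* Ω) (Q : Ideal B) [Q.IsPrime] (hQ : RingHom.ker g = Q.comap φ) :
    ∃ g' : B →+* Ω, g'.comp φ = g ∧ RingHom.ker g' = Q := by
  have hle : Q.comap φ ≤ RingHom.ker g := hQ.ge
  have hu : (Q.comap φ).primeCompl ≤ (IsUnit.submonoid Ω).comap g := by
    intro a ha
    exact IsUnit.mk0 _ fun h0 => ha (hQ ▸ RingHom.mem_ker.mpr h0)
  let g₀ := Ideal.ResidueField.lift (Q.comap φ) g hle hu
  letI := g₀.toAlgebra
  letI := (Ideal.ResidueField.map (Q.comap φ) Q φ rfl).toAlgebra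
  haveI : Algebra.IsIntegral (Q.comap φ).ResidueField Q.ResidueField :=
    ⟨isIntegral_residueFieldMap hφ Q _ rfl⟩
  haveI : Algebra.IsAlgebraic (Q.comap φ).ResidueField Q.ResidueField := inferInstance
  let σ : Q.ResidueField →ₐ[(Q.comap φ).ResidueField] Ω := IsAlgClosed.lift
  refine ⟨σ.toRingHom.comp (algebraMap B Q.ResidueField), ?_, ?_⟩
  · ext a
    have := σ.commutes (algebraMap A (Q.comap φ).ResidueField a)
    simp only [RingHom.algebraMap_toAlgebra, Ideal.ResidueField.map_algebraMap] at this
    rw [RingHom.comp_apply, RingHom.comp_apply]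
    exact this.trans (Ideal.ResidueField.lift_algebraMap _ _ _ hu a)
  · ext b
    rw [RingHom.mem_ker, RingHom.comp_apply, map_eq_zero_iff _ σ.toRingHom.injective]
    exact Ideal.algebraMap_residueField_eq_zero

/-- injectivity on points makes residue extensions purely inseparable -/
theorem exists_pow_mem_range_residueFieldMap (hφ : InjPoints φ) (Q : Ideal B) [Q.IsPrime]
    (P : Ideal A) [P.IsPrime] (h : P = Q.comap φ) (x : Q.ResidueField) :
    ∃ n : ℕ, x ^ ringExpChar P.ResidueField ^ n ∈
      Set.range (Ideal.ResidueField.map P Q φ h) := by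
  letI := (Ideal.ResidueField.map P Q φ h).toAlgebra
  haveI : Subsingleton (Field.Emb P.ResidueField Q.ResidueField) := by
    refine ⟨fun σ₁ σ₂ => AlgHom.coe_ringHom_injective (Ideal.ResidueField.ringHom_ext ?_)⟩
    refine hφ _ _ _ ?_
    ext a
    have e1 := σ₁.commutes (algebraMap A P.ResidueField a)
    have e2 := σ₂.commutes (algebraMap A P.ResidueField a)
    simp only [RingHom.algebraMap_toAlgebra, Ideal.ResidueField.map_algebraMap] at e1 e2
    exact e1.trans e2.symm
  haveI : IsPurelyInseparable P.ResidueField Q.ResidueField :=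
    (isPurelyInseparable_iff_subsingleton_emb ..).mpr ‹_›
  exact IsPurelyInseparable.pow_mem P.ResidueField (ringExpChar P.ResidueField) x

end ResidueField

end Groth.Agent.UnivHomeo.Basic
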