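import Groth.Agent.UnivHomeo.Basic
import Mathlib.AlgebraicGeometry.Morphisms.Affine

/-! A morphism of schemes which is a homeomorphism is affine; universal homeomorphisms are integral. -/

set_option autoImplicit false
universe u
open CategoryTheory AlgebraicGeometry

namespace Groth.Agent.UnivHomeo

/-- A morphism of schemes inducing a homeomorphism is affine. -/
theorem isAffineHom_of_isHomeomorph {X Y : Scheme.{u}} (f : X ⟶ Y) (h : IsHomeomorph f.base) :
    IsAffineHom f := by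
  refine isAffineHom_of_forall_exists_isAffineOpen _ fun y => ?_
  obtain ⟨x, rfl⟩ := h.surjective y
  obtain ⟨_, ⟨V, hV, rfl⟩, hxV, -⟩ :=
    Y.isBasis_affineOpens.exists_subset_of_mem_open (Set.mem_univ (f x)) isOpen_univ
  obtain ⟨_, ⟨U, hU, rfl⟩, hxU, hUV⟩ :=
    X.isBasis_affineOpens.exists_subset_of_mem_open (show x ∈ f ⁻¹ᵁ V from hxV) (f ⁻¹ᵁ V).isOpen
  obtain ⟨g, hg, hxg⟩ := hV.exists_basicOpen_le (V := ⟨f '' U, h.isOpenMap _ U.isOpen⟩)
    ⟨f x, Set.mem_image_of_mem _ hxU⟩ hxV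
  refine ⟨Y.basicOpen g, hxg, hV.basicOpen g, ?_⟩
  have hle : f ⁻¹ᵁ Y.basicOpen g ≤ U := fun z hz => by
    obtain ⟨w, hw, hwz⟩ := hg hz
    exact h.injective hwz ▸ hw
  have heq : f ⁻¹ᵁ Y.basicOpen g = X.basicOpen (f.appLE V U (fun _ hz => hUV hz) g) := by
    rw [Scheme.basicOpen_appLE]
    exact (inf_eq_right.mpr hle).symm
  rw [heq]
  exact hU.basicOpen _

theorem isIntegralHom_of_univHomeo {X Y : Scheme.{u}} {f : X ⟶ Y} (h : FlatMor.IsUnivHomeo f) :
    IsIntegralHom f :=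
  have := isAffineHom_of_isHomeomorph f (h _ _ _ (IsPullback.of_id_snd) : IsHomeomorph _)
  Basic.isIntegralHom_of_isUnivHomeo h

end Groth.Agent.UnivHomeo
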